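import Cfsg.Agent.H667.DM.SevenDeg
import Cfsg.Agent.H667.DM.HasSeven
import Cfsg.Agent.H456.DM.Solv
import Cfsg.Agent.H456.DM.Cover
import Cfsg.Agent.H124.DM.Cover
import Cfsg.Agent.H42.DM.OEight
import Cfsg.Agent.H932.DM.RowA8
import Cfsg.Agent.H700.DM.Basic
import Cfsg.Agent.H95.StemCover
import Cfsg.Agent.UGT.U2.Rec.Congr
import Cfsg.Agent.S0102
import Cfsg.Agent.S0293
import Cfsg.Agent.S0892
import Cfsg.Agent.S2040
import Cfsg.Agent.S2098

/-!
# S4907, exceptional rows `2.Ω₈⁺(2)`, `2².Ω₈⁺(2)` (helper667, task 4116, DM24)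
-/

set_option autoImplicit false

namespace Cfsg.Agent.H667.DM

open Cfsg Subgroup
open scoped commutatorElement
open Cfsg.Agent.H700.DM
open Cfsg.Agent.OrdDiv (OrderTable cands ordN Real)

universe u v

/-- the orders of the possible simple quotients -/
def ords : List ℕ := [504, 6048, 25920, 20160, 181440, 1451520, 1814400, 604800, 174182400]

theorem mul_ords : ∀ a ∈ ords, ∀ b ∈ ords, ¬ a * b ∣ 696729600 := by decide +kernel

/-- **The possible simple quotients.** -/
theorem quot_cases_o8 (OT : OrderTable.{u}) {K : Type u} [Group K] [Finite K] (hK : IsKnownSimple' K)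
    (hna : ¬ ∀ a b : K, a * b = b * a) (hlow : LowDeg 7 K) (hd : Nat.card K ∣ 696729600) :
    Nat.card K ∈ ([504, 6048, 25920, 20160, 181440, 1451520] : List ℕ) ∨
      (Nat.card K = 1814400 ∧ Nonempty (K ≃* ↥(alternatingGroup (Fin 10)))) ∨
      (Nat.card K = 604800 ∧ Spor.IsoJ2 K) ∨
      (Nat.card K = 174182400 ∧ ∃ (F : Type) (_ : Field F) (_ : Fintype F), Fintype.card F = 2 ∧
        Nonempty (K ≃* POmega F (quadFormPlus 4 F))) := by
  obtain ⟨g, hg, hr, ho⟩ := OrdDiv.exists_good OT hK hna (l := [(2, 14), (3, 5), (5, 2), (7, 1)]) (N := 696729600)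
    (by decide +kernel) hd
  rw [show cands [(2, 14), (3, 5), (5, 2), (7, 1)] 696729600 = [.alt 5, .alt 6, .alt 7, .alt 8, .alt 9, .alt 10,
    .psl 3 2, .psl 4 2, .psl 2 4, .psl 3 4, .psl 2 8, .psl 2 9, .psl 2 5, .psl 2 7, .psp 3 2, .psp 2 3, .psu 4 2,
    .psu 3 3, .oplus 4 2, .j2] by decide +kernel] at hg
  have hno : ∀ n, 1 < n → n < 7 → ¬ HasDeg n K := fun n h1 h2 h => by
    rcases lowDeg_iff.1 hlow n h with h3 | h3 <;> omega
  have h5 : ∀ {F : Type} [Field F] [Fintype F], Fintype.card F = 5 →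
      (K ≃* Matrix.ProjectiveSpecialLinearGroup (Fin 2) F) → False := fun hF e =>
    hno 5 (by norm_num) (by norm_num) ((H932.DM.hasDeg_of_mem (H464.PslDeg.psl_four_five hF).2).congr e)
  have h7 : ∀ {F : Type} [Field F] [Fintype F], Fintype.card F = 7 →
      (K ≃* Matrix.ProjectiveSpecialLinearGroup (Fin 2) F) → False := fun hF e => by
    have := (H464.PslDeg.psl_degrees (by rw [hF])).2
    rw [hF] at this
    exact hno 6 (by norm_num) (by norm_num) ((H932.DM.hasDeg_of_mem this).congr e)
  have hp5 : Fact (Nat.Prime 5) := ⟨by norm_num⟩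
  have hp7 : Fact (Nat.Prime 7) := ⟨by norm_num⟩
  simp only [List.mem_cons, List.not_mem_nil, or_false] at hg
  rcases hg with rfl | rfl | rfl | rfl | rfl | rfl | rfl | rfl | rfl | rfl | rfl | rfl | rfl | rfl | rfl | rfl | rfl |
    rfl | rfl | rfl
  · obtain ⟨e⟩ := hr
    exact absurd (H932.DM.hasDeg_alt (by norm_num) e) (hno 4 (by norm_num) (by norm_num))
  · obtain ⟨e⟩ := hr
    exact absurd (H932.DM.hasDeg_alt (by norm_num) e) (hno 5 (by norm_num) (by norm_num))
  · obtain ⟨e⟩ := hr
    exact absurd (H932.DM.hasDeg_alt (by norm_num) e) (hno 6 (by norm_num) (by norm_num))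
  · left; rw [ho]; decide +kernel
  · left; rw [ho]; decide +kernel
  · right; left
    exact ⟨ho.trans (by decide +kernel), hr⟩
  · obtain ⟨F, _, _, hF, ⟨e⟩⟩ := hr
    obtain ⟨f⟩ := S0255.result (F := ZMod 7) (K := F) (ZMod.card 7) hF
    exact (h7 (ZMod.card 7) (e.trans f.symm)).elim
  · left; rw [ho]; decide +kernel
  · obtain ⟨F, _, _, hF, ⟨e⟩⟩ := hr
    obtain ⟨f⟩ := S0252.result (F := F) hF
    exact absurd (H932.DM.hasDeg_alt (by norm_num) (e.trans f)) (hno 4 (by norm_num) (by norm_num))
  · left; rw [ho]; decide +kernel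
  · left; rw [ho]; decide +kernel
  · obtain ⟨F, _, _, hF, ⟨e⟩⟩ := hr
    obtain ⟨f⟩ := S0254.result (F := F) hF
    exact absurd (H932.DM.hasDeg_alt (by norm_num) (e.trans f)) (hno 5 (by norm_num) (by norm_num))
  · obtain ⟨F, _, _, hF, ⟨e⟩⟩ := hr
    exact (h5 hF e).elim
  · obtain ⟨F, _, _, hF, ⟨e⟩⟩ := hr
    exact (h7 hF e).elim
  · left; rw [ho]; decide +kernel
  · left; rw [ho]; decide +kernel
  · left; rw [ho]; decide +kernel
  · left; rw [ho]; decide +kernel
  · right; right; right
    obtain ⟨F, _, _, hF, h⟩ := hr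
    exact ⟨ho.trans (by decide +kernel), F, inferInstance, inferInstance, hF, h⟩
  · right; right; left
    exact ⟨ho.trans (by decide +kernel), hr⟩

theorem card_mem_ords (OT : OrderTable.{u}) {K : Type u} [Group K] [Finite K] (hK : IsKnownSimple' K)
    (hna : ¬ ∀ a b : K, a * b = b * a) (hlow : LowDeg 7 K) (hd : Nat.card K ∣ 696729600) : Nat.card K ∈ ords := by
  rcases quot_cases_o8 OT hK hna hlow hd with h | h | h | h
  · simp only [List.mem_cons, List.not_mem_nil, or_false] at h
    simp only [ords, List.mem_cons, List.not_mem_nil, or_false]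
    tauto
  · rw [h.1]; decide
  · rw [h.1]; decide
  · rw [h.1]; decide

/-- the order of `GL_j(l)`, `j ≤ 2` -/
theorem not_dvd_GL {l N : ℕ} [hl : Fact l.Prime] (hN : (l ^ 2 - 1) * (l ^ 2 - l) < N) {j : ℕ} (hj1 : 1 ≤ j) (hj2 : j ≤ 2) :
    ¬ N ∣ Nat.card (GL (Fin j) (ZMod l)) := by
  have h2 : 2 ≤ l := hl.out.two_le
  intro h
  have h1 := Nat.le_of_dvd Nat.card_pos h
  interval_cases j
  · rw [Matrix.card_GL_field, ZMod.card] at h1
    simp only [Finset.univ_unique, Fin.default_eq_zero, Fin.isValue, pow_one, Fin.val_eq_zero, pow_zero,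
      Finset.prod_singleton] at h1
    have : l - 1 ≤ (l ^ 2 - 1) * (l ^ 2 - l) := by
      have h3 : 1 ≤ l ^ 2 - l := by
        have : l + 1 ≤ l ^ 2 := by nlinarith
        omega
      have h4 : l ≤ l ^ 2 := by nlinarith
      calc l - 1 ≤ l ^ 2 - 1 := by omega
        _ = (l ^ 2 - 1) * 1 := by ring
        _ ≤ _ := Nat.mul_le_mul_left _ h3
    omega
  · rw [Matrix.card_GL_field, ZMod.card] at h1
    rw [Fin.prod_univ_two] at h1
    simp only [Fin.isValue, Fin.val_zero, pow_zero, Fin.val_one, pow_one] at h1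
    omega

/-- **No extra `l`-part when the Sylow `l`-subgroups are cyclic.** -/
theorem kill {G : Type u} [Group G] [Finite G] (hG : Group.IsPerfect G) (M : Subgroup G) [M.Normal]
    (hs : IsSimpleGroup (G ⧸ M)) (hna : ¬ ∀ a b : G ⧸ M, a * b = b * a) (hM : Group.IsSolvable M) {l : ℕ}
    [hl : Fact l.Prime] (h3 : ¬ l ^ 3 ∣ Nat.card M) (hb : (l ^ 2 - 1) * (l ^ 2 - l) < Nat.card (G ⧸ M))
    (hK : ¬ l ^ 2 ∣ Nat.card (G ⧸ M)) : ¬ l ∣ Nat.card M := by
  intro hdvd
  obtain ⟨E, _, _, hE, ⟨e⟩, hc⟩ := H456.DM.Cover.cover_of' hG M hs hna hM hl.out (fun j hj1 hj =>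
    not_dvd_GL hb hj1 (by
      by_contra hcon
      push Not at hcon
      exact h3 ((pow_dvd_pow l hcon).trans hj)))
  have hKs : commutator (G ⧸ M) = ⊤ := by
    rcases Subgroup.Normal.eq_bot_or_eq_top (H := commutator (G ⧸ M)) inferInstance with h | h
    · exfalso
      apply hna
      intro a b
      have h1 : ⁅a, b⁆ ∈ commutator (G ⧸ M) := by
        rw [_root_.commutator_def]
        exact Subgroup.commutator_mem_commutator (mem_top _) (mem_top _)
      rw [h, mem_bot] at h1
      exact commutatorElement_eq_one_iff_mul_comm.1 h1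
    · exact h
  have h1 := S0102.result (G := G ⧸ M) (H := E) hKs (p := l) ?_ (e.toMonoidHom.comp (QuotientGroup.mk' (center E)))
    (e.surjective.comp (QuotientGroup.mk'_surjective _)) ?_ hE.1.commutator_eq_top
  · have hker : (e.toMonoidHom.comp (QuotientGroup.mk' (center E))).ker = center E := by
      ext x
      rw [MonoidHom.mem_ker, MonoidHom.comp_apply]
      change e _ = 1 ↔ _
      rw [map_eq_one_iff _ e.injective, QuotientGroup.mk'_apply, QuotientGroup.eq_one_iff]
    rw [hker, hc] at h1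
    apply h1
    apply dvd_pow_self
    have : 0 < (Nat.card M).factorization l := hl.out.factorization_pos_of_dvd Nat.card_pos.ne' hdvd
    omega
  · intro P
    obtain ⟨k, hk⟩ := IsPGroup.iff_card.1 P.2
    have h2 : k < 2 := by
      by_contra hcon
      push Not at hcon
      exact hK ((pow_dvd_pow l hcon).trans ((dvd_of_eq hk.symm).trans (Subgroup.card_subgroup_dvd_card _)))
    interval_cases k
    · rw [pow_zero] at hk
      have : Subsingleton (P : Subgroup (G ⧸ M)) := (Nat.card_eq_one_iff_unique.1 hk).1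
      exact isCyclic_of_subsingleton
    · exact isCyclic_of_prime_card (p := l) (by rw [hk, pow_one])
  · intro x hx
    rw [MonoidHom.mem_ker, MonoidHom.comp_apply] at hx
    change e _ = 1 at hx
    rw [map_eq_one_iff _ e.injective, QuotientGroup.mk'_apply, QuotientGroup.eq_one_iff] at hx
    exact hx

/-- the centre of a perfect cover and the multiplier -/
theorem center_dvd {T : Type v} [Group T] {E : Type u} [Group E] [Finite E] (hE : commutator E = ⊤) {A : Type*}
    [CommGroup A] (hA : HasSchurMultiplier T A) (e : (E ⧸ center E) ≃* T) : Nat.card (center E) ∣ Nat.card A := by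
  have hker : (e.toMonoidHom.comp (QuotientGroup.mk' (center E))).ker = center E := by
    ext x
    rw [MonoidHom.mem_ker, MonoidHom.comp_apply]
    change e _ = 1 ↔ _
    rw [map_eq_one_iff _ e.injective, QuotientGroup.mk'_apply, QuotientGroup.eq_one_iff]
  have h := H95.StemCover.card_ker_dvd hA hE (e.toMonoidHom.comp (QuotientGroup.mk' (center E)))
    (e.surjective.comp (QuotientGroup.mk'_surjective _)) (by rw [hker])
  rwa [hker] at h

/-- **DM24**: the exceptional rows `2.Ω₈⁺(2)`, `2².Ω₈⁺(2)`. -/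
theorem row_o8 {G : Type u} {H : Type v} [Group G] [Finite G] [Group H] [Finite H] (OT : OrderTable.{u})
    (hS : ∀ (X : Type u) [Group X] [Finite X] [IsSimpleGroup X], IsKnownSimple' X)
    (hSch : ∀ (K : Type u) [Group K] [Finite K], IsSimpleGroup K → (¬ ∀ a b : K, a * b = b * a) → Schreier.Basic.Sch K)
    (hH : IsQuasisimple H) {F : Type} [Field F] [Fintype F] (hF : Fintype.card F = 2)
    (e : H ⧸ center H ≃* POmega F (quadFormPlus 4 F)) (h2 : 2 ∣ Nat.card (center H))
    (hd : SameDeg G H) : Nonempty (G ≃* H) := by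
  have hO8 : Nat.card (POmega F (quadFormPlus 4 F)) = 174182400 := by
    have h := Cfsg.Agent.S0293.result (F := F) (q := 2) hF 4 le_rfl
    norm_num [Finset.prod_range_succ] at h
    exact h
  have hperfH : commutator H = ⊤ := hH.1.commutator_eq_top
  have hz4 : Nat.card (center H) ∣ 4 := by
    have h1 := center_dvd hperfH (S2098.result hF) e
    have h3 : Nat.card (Multiplicative (ZMod 2 × ZMod 2)) = 4 := by
      rw [Nat.card_congr Multiplicative.toAdd, Nat.card_prod, Nat.card_zmod]
    rwa [h3] at h1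
  have hcH : Nat.card H = 174182400 * Nat.card (center H) := by
    rw [Subgroup.card_eq_card_quotient_mul_card_subgroup (center H), Nat.card_congr e.toEquiv, hO8]
  have hcG : Nat.card G = 174182400 * Nat.card (center H) := hd.card_eq.trans hcH
  have hcG' : Nat.card G ∣ 696729600 := by
    rw [hcG]
    exact (Nat.mul_dvd_mul_left _ hz4).trans (by norm_num)
  have hGp : Group.IsPerfect G := hd.perfect hH.1
  have hperf : commutator G = ⊤ := hGp.commutator_eq_top
  -- degrees
  have hlowH : LowDeg 7 H := by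
    obtain ⟨x, y, q1, q2, q3, q4⟩ := (hasS7_o8 hF).of_injective e.symm.toMonoidHom e.symm.injective
    exact lowDeg_seven hH x y q1 q2 q3 q4
  have hlow : LowDeg 7 G := lowDeg_iff.2 fun n hn => lowDeg_iff.1 hlowH n (hd.hasDeg.1 hn)
  have hnt : Nontrivial G := by
    rw [← Finite.one_lt_card_iff_nontrivial, hcG]
    have : 0 < Nat.card (center H) := Nat.card_pos
    omega
  obtain ⟨N, hN, hsimple⟩ := H655.PrimeNormal.exists_simple_quotient G
  have hna : ¬ ∀ a b : G ⧸ N, a * b = b * a := by
    intro hcomm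
    have h1 : commutator G ≤ N := by
      rw [_root_.commutator_def, Subgroup.commutator_le]
      intro a _ b _
      rw [← QuotientGroup.eq_one_iff]
      have h3 : (QuotientGroup.mk ⁅a, b⁆ : G ⧸ N) = ⁅(QuotientGroup.mk a : G ⧸ N), QuotientGroup.mk b⁆ := rfl
      rw [h3]
      exact commutatorElement_eq_one_iff_mul_comm.2 (hcomm _ _)
    rw [hperf, top_le_iff] at h1
    have h3 : Subsingleton (G ⧸ N) := by
      rw [h1]
      exact QuotientGroup.subsingleton_quotient_top
    exact not_subsingleton (G ⧸ N) h3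
  have hcN := Subgroup.card_eq_card_quotient_mul_card_subgroup N
  have hKdvd : Nat.card (G ⧸ N) ∣ 696729600 := (Dvd.intro _ hcN.symm).trans hcG'
  have hKlow : LowDeg 7 (G ⧸ N) := hlow.quotient (f := QuotientGroup.mk' N) (QuotientGroup.mk'_surjective N)
  have hKmem := card_mem_ords OT (hS (G ⧸ N)) hna hKlow hKdvd
  have hK504 : 504 ≤ Nat.card (G ⧸ N) := by
    have : ∀ a ∈ ords, 504 ≤ a := by decide
    exact this _ hKmem
  -- `N` is solvable
  have hNs : Group.IsSolvable N := by
    refine H456.DM.Solv.solvable_of_sch hSch hGp N ?_ ?_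
    · intro T _ _ _ f hf hT hdvd
      have hTlow : LowDeg 7 T := hlow.quotient hf
      have hTd : Nat.card T ∣ 696729600 := (Dvd.intro _ rfl).trans (hdvd.trans hcG')
      exact mul_ords _ (card_mem_ords OT (hS T) hT hTlow hTd) _ hKmem (hdvd.trans hcG')
    · have h5 := Nat.le_of_dvd (by norm_num) hcG'
      calc Nat.card G ≤ 696729600 := h5
        _ < 60 ^ 5 * 504 := by norm_num
        _ ≤ _ := Nat.mul_le_mul_left _ hK504
  have hzc : Nat.card (center H) = 2 ∨ Nat.card (center H) = 4 := by
    have h5 := Nat.le_of_dvd (by norm_num) hz4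
    generalize Nat.card (center H) = z at *
    interval_cases z <;> simp_all
  have hp5 : Fact (Nat.Prime 5) := ⟨by norm_num⟩
  have hp3 : Fact (Nat.Prime 3) := ⟨by norm_num⟩
  have hNG : Nat.card N ∣ 696729600 := (Dvd.intro_left _ hcN.symm).trans hcG'
  rw [hcG] at hcN
  rcases quot_cases_o8 OT (hS (G ⧸ N)) hna hKlow hKdvd with h | ⟨h, ⟨f⟩⟩ | ⟨h, f⟩ | ⟨h, F', _, _, hF', ⟨f⟩⟩
  · exfalso
    have h25 : ¬ 5 ^ 2 ∣ Nat.card (G ⧸ N) := by
      have : ∀ a ∈ ([504, 6048, 25920, 20160, 181440, 1451520] : List ℕ), ¬ 5 ^ 2 ∣ a := by decide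
      exact this _ h
    refine kill (l := 5) hGp N hsimple hna hNs (fun h5 => absurd (h5.trans hNG) (by norm_num))
      (lt_of_lt_of_le (by norm_num) hK504) h25 ?_
    simp only [List.mem_cons, List.not_mem_nil, or_false] at h
    rcases hzc with hz | hz <;> rw [hz] at hcN <;> rcases h with h | h | h | h | h | h <;> rw [h] at hcN <;> omega
  · -- `A₁₀`
    exfalso
    have hcN' : Nat.card N = 96 * Nat.card (center H) := by rw [h] at hcN; omega
    have hv : (Nat.card N).factorization 3 = 1 := by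
      rcases hzc with hz | hz <;> rw [hcN', hz] <;> decide +kernel
    obtain ⟨E, _, _, hE, ⟨e'⟩, hc⟩ := H456.DM.Cover.cover_of' hGp N hsimple hna hNs Nat.prime_three (fun j hj1 hj =>
      not_dvd_GL (l := 3) (by omega) hj1 (by
        have := (Nat.Prime.pow_dvd_iff_le_factorization Nat.prime_three Nat.card_pos.ne').1 hj
        omega))
    rw [hv, pow_one] at hc
    have h1 := S0892.result 10 (by norm_num) (by norm_num) (by norm_num) (center E) le_rfl
      (by rw [hE.1.commutator_eq_top]; exact le_top) (e'.trans f)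
    omega
  · -- `J₂`
    exfalso
    have hcN' : Nat.card N = 288 * Nat.card (center H) := by rw [h] at hcN; omega
    have hv : (Nat.card N).factorization 3 = 2 := by
      rcases hzc with hz | hz <;> rw [hcN', hz] <;> decide +kernel
    obtain ⟨E, _, _, hE, ⟨e'⟩, hc⟩ := H456.DM.Cover.cover_of' hGp N hsimple hna hNs Nat.prime_three (fun j hj1 hj =>
      not_dvd_GL (l := 3) (by omega) hj1 (by
        have := (Nat.Prime.pow_dvd_iff_le_factorization Nat.prime_three Nat.card_pos.ne').1 hj
        omega))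
    rw [hv] at hc
    obtain ⟨f'⟩ := f
    have h1 := center_dvd hE.1.commutator_eq_top S2040.result (e'.trans f')
    rw [Nat.card_congr Multiplicative.toAdd, Nat.card_zmod, hc] at h1
    norm_num at h1
  · -- `Ω₈⁺(2)`
    have hcN' : Nat.card N = Nat.card (center H) := by rw [h] at hcN; omega
    have hNc : N ≤ center G := by
      refine H456.DM.Cover.le_center_of hGp N hsimple hNs ?_
      intro l hl j hj1 hj
      have hlf : Fact l.Prime := ⟨hl⟩
      have hl2 : l = 2 := by
        have h1 : l ^ j ∣ 2 ^ 2 := (hj.trans (by rw [hcN'])).trans hz4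
        exact (Nat.prime_dvd_prime_iff_eq hl Nat.prime_two).1
          (hl.dvd_of_dvd_pow ((dvd_pow_self l (by omega)).trans h1))
      subst hl2
      refine not_dvd_GL (l := 2) (by omega) hj1 ?_
      have h1 : 2 ^ j ∣ 2 ^ 2 := (hj.trans (by rw [hcN'])).trans hz4
      exact (Nat.pow_dvd_pow_iff_le_right (by norm_num)).1 h1
    have hcen : center G = N := by
      refine le_antisymm ?_ hNc
      intro x hx
      rw [← QuotientGroup.eq_one_iff]
      have h1 : (x : G ⧸ N) ∈ center (G ⧸ N) := by
        rw [mem_center_iff]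
        intro y
        obtain ⟨y, rfl⟩ := QuotientGroup.mk_surjective y
        rw [← QuotientGroup.mk_mul, ← QuotientGroup.mk_mul, mem_center_iff.1 hx y]
      have h3 : center (G ⧸ N) = ⊥ := by
        rcases (inferInstance : (center (G ⧸ N)).Normal).eq_bot_or_eq_top with h | h
        · exact h
        · exfalso
          apply hna
          intro a b
          have : a ∈ center (G ⧸ N) := by rw [h]; trivial
          exact (mem_center_iff.1 this b).symm
      rw [h3, mem_bot] at h1
      exact h1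
    subst hcen
    have hGq : IsQuasisimple G := ⟨hGp, hsimple⟩
    obtain ⟨k⟩ := UGT.U2.Rec.Congr.nonempty_POmega (FiniteField.ringEquivOfCardEq (hF'.trans hF.symm))
      (Q := quadFormPlus 4 F') (Q' := quadFormPlus 4 F) (fun v => by simp [quadFormPlus, map_sum, map_mul])
    rcases hzc with hz | hz
    · exact H42.DM.o8_double hGq hH hF (f.trans k) e (hcN'.trans hz) hz
    · refine H124.DM.iso_of_mult (S2098.result hF) hGq hH (f.trans k) e hcN' ?_
      intro X Y hX hY
      have hA : Nat.card (Multiplicative (ZMod 2 × ZMod 2)) = 4 := by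
        rw [Nat.card_congr Multiplicative.toAdd, Nat.card_prod, Nat.card_zmod]
      have hbot : ∀ Z : Subgroup (Multiplicative (ZMod 2 × ZMod 2)), Z.index = Nat.card (center G) → Z = ⊥ := by
        intro Z hZ
        have h1 := Z.card_mul_index
        rw [hZ, hcN', hz, hA] at h1
        exact Subgroup.card_eq_one.1 (by omega)
      rw [hbot X hX, hbot Y hY]

end Cfsg.Agent.H667.DM
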