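import Cfsg.Agent.H667.DM.Seven
import Cfsg.Agent.H604.DM.Gen

/-!
# `LowDeg 7` (helper667, task 4116, S4907)
-/

set_option autoImplicit false

namespace Cfsg.Agent.H667.DM

open Subgroup Cfsg Cfsg.Agent.H700.DM

/-- **Degrees of a quasisimple group `T` such that `T / Z(T)` contains `2³:7`.** -/
theorem lowDeg_seven {T : Type*} [Group T] [Finite T] (hT : IsQuasisimple T) (x u : T ⧸ center T) (hx : x ≠ 1)
    (hxx : x * x = 1) (hu : u ^ 7 = 1) (h : x * (u * x * u⁻¹) = u ^ 3 * x * (u ^ 3)⁻¹) : LowDeg 7 T := by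
  classical
  intro χ
  by_cases h1 : charDegree (χ : T → ℂ) = 1
  · exact Or.inl h1
  right
  obtain ⟨n, ρ, hρ, hc⟩ := χ.2
  have hdeg : charDegree (χ : T → ℂ) = n := by
    have h2 := H686.CharKit.charDegree_irr χ
    rw [← hc, Representation.char_one, Module.finrank_fin_fun] at h2
    rw [← hc]
    exact_mod_cast h2
  have h3 := seven_le hT x u hx hxx hu h ρ hρ ?_
  · rw [Module.finrank_fin_fun] at h3
    rw [hdeg]
    exact h3
  by_contra hcon
  push Not at hcon
  have := Fintype.ofFinite T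
  have h4 : ∀ t, (χ : T → ℂ) t = n := by
    intro t
    rw [← hc]
    show LinearMap.trace ℂ _ (ρ t) = n
    rw [hcon t, LinearMap.trace_one, Module.finrank_fin_fun]
  have h5 := Characters.Core.classInner_irr_self χ.2
  rw [Characters.Core.classInner_def] at h5
  simp only [h4, map_natCast, Finset.sum_const, Finset.card_univ, nsmul_eq_mul] at h5
  rw [Nat.card_eq_fintype_card, ← mul_assoc, inv_mul_cancel₀ (by exact_mod_cast Fintype.card_ne_zero), one_mul] at h5
  have h6 : n * n = 1 := by exact_mod_cast h5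
  exact h1 (hdeg.trans (Nat.mul_self_inj.1 (by rw [h6])))

end Cfsg.Agent.H667.DM
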